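import Cfsg.Agent.CosetEnum.Y322B.Data

set_option autoImplicit false
set_option maxRecDepth 100000
set_option Elab.async false

/-! Deductions for the coset table on 27 cosets (generated certificate). -/

namespace CfsgLib.CosetEnum.Y322B

def B0 : ℕ := 0x4183860a20e10c5065060a60b2618648268c9610

theorem tree0 : foldR (tree 6 tb id parN parX) 5 0 0 = B0 := by decide +kernel

theorem goodT0 : enum.Good B0 := enum.good_tree_block 5 0 _ _ enum.good_zero tree0

theorem good0 : enum.Good B0 := goodT0

def D1 : ℕ := 0xff00000000ff00000000ff00000000ff00000000ff00000000ff00000000ff00000000ff00000000ff00000000ff00000000ff00000000ff00000000ff00000000ff00000000ff00000000ff00000000ff00000000ff00000000ff00000000ff00000000ff00000000ff00000000ff00000000ff00000000ff00000000ff00000000ff00000000ff00000018070200001702010000150e020000130e020000110e020000190d010000190c010000130c0200001809010000180801000017040100001603030000190202000012020100000f020100001701020000151302000011110200001110030000190e0100000f0d0200000c0c020000180a010000150a020000130a020000110a0200000b09020000130802000009080200000907030000150503000012050200000f0502000012030200000c0303000010010300000d01030000080102000005010300000f130100000d130100000b130100000c110100000a1101000009110100000c100200000a100200000910020000030e0200000a0a010000060a0200000a0901000003070200000605030000040503000002050200000d040200000b0402000008040100000704010000080302000007030200000402020000020201000002010200000613020000041302000003130200000611020000041102000003110200000111010000040d010000040c010000010c02000003090100000308010000010802000002040100000103030000001301000000100300000b0d020000000d020000090c0200000009020000000402000007020100000019000000001800000000170000000016000000001500000011130200001311020000040e020000030a0200000d090200000a080200000f0402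

def B1 : ℕ := 0x3ffffffffffffffffffffffffffffffffffffffff

theorem step1 : runDed 6 tb id wd 21 26 7 D1 B0 = B1 := by decide +kernel

theorem good1 : enum.Good B1 :=
  enum.good_ded 7 D1 21 26 _ _ rfl rfl good0 step1

end CfsgLib.CosetEnum.Y322B
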